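import Groth.Agent.Lib.Hensel.TensorIntegral
import Groth.Agent.Lib.Hensel.BranchCount
import Mathlib.RingTheory.Henselian
import Mathlib.RingTheory.DiscreteValuationRing.Basic
import Mathlib.RingTheory.Polynomial.Eisenstein.Basic
import Mathlib.RingTheory.Polynomial.GaussLemma
import Mathlib.RingTheory.IntegralClosure.IntegralRestrict
import Mathlib.FieldTheory.IsAlgClosed.Basic
import Mathlib.FieldTheory.KummerExtension
import Mathlib.RingTheory.RootsOfUnity.PrimitiveRoots
import Mathlib.RingTheory.Polynomial.Cyclotomic.Roots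

/-!
# Roots of units and tame Kummer extensions over a strictly henselian discrete valuation ring
-/

set_option autoImplicit false
set_option linter.style.haveILetI false

universe u

open Polynomial IsLocalRing

namespace GrothLib.Tame16

/-- Roots of units of order prime to the residue characteristic in a henselian local ring with
algebraically closed residue field. -/
theorem exists_pow_eq {B : Type u} [CommRing B] [HenselianLocalRing B] [IsAlgClosed (ResidueField B)]
    {u : B} (hu : IsUnit u) {r : ℕ} (hr : (r : ResidueField B) ≠ 0) : ∃ w : B, w ^ r = u := by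
  have hr0 : r ≠ 0 := fun h => hr (by rw [h, Nat.cast_zero])
  obtain ⟨a, ha⟩ := IsAlgClosed.exists_pow_nat_eq (residue B u) (Nat.pos_of_ne_zero hr0)
  obtain ⟨a0, rfl⟩ := residue_surjective a
  obtain ⟨w, hw, -⟩ := HenselianLocalRing.is_henselian (X ^ r - C u) (monic_X_pow_sub_C u hr0) a0 (by
    rw [← residue_eq_zero_iff]; simp [ha]) (by
    have h0 : IsUnit (a0 ^ (r - 1)) := by
      refine IsUnit.pow _ ((notMem_maximalIdeal).1 fun h => ?_)
      rw [← residue_eq_zero_iff] at h
      rw [h, zero_pow hr0] at ha
      exact (hu.map (residue B)).ne_zero ha.symm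
    have h1 : IsUnit (r : B) := by
      refine (notMem_maximalIdeal).1 fun h => hr ?_
      rw [← residue_eq_zero_iff, map_natCast] at h
      exact h
    rw [derivative_sub, derivative_X_pow, derivative_C, sub_zero, eval_mul, eval_C, eval_pow, eval_X]
    exact h1.mul h0)
  exact ⟨w, by simpa [IsRoot, sub_eq_zero] using hw⟩

variable (O : Type u) [CommRing O] [HenselianLocalRing O] [IsAlgClosed (ResidueField O)]

/-- A primitive root of unity of order prime to the residue characteristic. -/
theorem exists_primitiveRoot [IsDomain O] {r : ℕ} (hr : (r : ResidueField O) ≠ 0) :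
    ∃ ζ : O, IsPrimitiveRoot ζ r := by
  haveI : NeZero (r : ResidueField O) := ⟨hr⟩
  obtain ⟨z, hz⟩ : ∃ z : ResidueField O, IsPrimitiveRoot z r := by
    obtain ⟨z, hz⟩ := IsAlgClosed.exists_root (cyclotomic r (ResidueField O))
      (ne_of_gt (degree_cyclotomic_pos r _ (Nat.pos_of_ne_zero fun h => hr (by rw [h, Nat.cast_zero]))))
    exact ⟨z, isRoot_cyclotomic_iff.1 hz⟩
  have hr0 : r ≠ 0 := fun h => hr (by rw [h, Nat.cast_zero])
  obtain ⟨a0, rfl⟩ := residue_surjective z
  obtain ⟨w, hw, hwa⟩ := HenselianLocalRing.is_henselian (X ^ r - C (1 : O)) (monic_X_pow_sub_C 1 hr0) a0 (by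
    rw [← residue_eq_zero_iff]; simp [hz.pow_eq_one]) (by
    have h1 : IsUnit (r : O) := by
      refine (notMem_maximalIdeal).1 fun h => hr ?_
      rw [← residue_eq_zero_iff, map_natCast] at h
      exact h
    have h0 : IsUnit (a0 ^ (r - 1)) :=
      IsUnit.pow _ ((notMem_maximalIdeal).1 fun h => hz.ne_zero hr0 ((residue_eq_zero_iff a0).2 h))
    rw [derivative_sub, derivative_X_pow, derivative_C, sub_zero, eval_mul, eval_C, eval_pow, eval_X]
    exact h1.mul h0)
  have e : residue O w = residue O a0 := by
    rw [← sub_eq_zero, ← map_sub, residue_eq_zero_iff]; exact hwa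
  exact ⟨w, by simpa [IsRoot, sub_eq_zero] using hw, fun l hl => hz.2 l (by rw [← e, ← map_pow, hl, map_one])⟩

section

variable {O} [IsDomain O] {L : Type u} [Field L] [Algebra O L]

/-- In a finite extension of the fraction field, an integral element congruent to a unit of the base
modulo a nilpotent-mod-uniformizer element has all tame roots. -/
theorem exists_pow_eq_aeval (hinjL : Function.Injective (algebraMap O L)) {x : L} (hx : IsIntegral O x) {c : O} (hc : c ∈ maximalIdeal O) {e : ℕ}
    (he : e ≠ 0) (y : L) (hy : IsIntegral O y) (hxy : x ^ e = algebraMap O L c * y) (g : O[X])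
    (hg : g.coeff 0 ∉ maximalIdeal O) {r : ℕ} (hr : (r : ResidueField O) ≠ 0) :
    ∃ w : L, w ^ r = aeval x g := by
  let B := integralClosure O L
  have hinj : Function.Injective (algebraMap O B) := fun a b h => hinjL (congrArg Subtype.val h)
  obtain ⟨M, hM⟩ := Ideal.exists_maximal B
  haveI : IsLocalRing B := IsLocalRing.of_unique_max_ideal ⟨M, hM, fun P hP => by
    haveI := hP
    haveI := hM
    exact Hensel.eq_of_isMaximal_of_isIntegral (S := O)⟩
  haveI : IsLocalHom (algebraMap O B) :=
    RingHom.IsIntegral.isLocalHom (algebraMap_isIntegral_iff.mpr inferInstance) hinj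
  haveI : HenselianLocalRing B := Hensel.henselianLocalRing_of_isIntegral_isLocalHom (R := O)
  haveI : Algebra.IsIntegral (ResidueField O) (ResidueField B) := by
    refine ⟨fun z => ?_⟩
    obtain ⟨b, rfl⟩ := residue_surjective z
    have hb : IsIntegral O (residue B b) :=
      (Algebra.IsIntegral.isIntegral (R := O) b).map (IsScalarTower.toAlgHom O B (ResidueField B))
    exact hb.tower_top
  haveI : IsAlgClosed (ResidueField B) := by
    have hs := (IsAlgClosed.algebraMap_bijective_of_isIntegral (k := ResidueField O) (K := ResidueField B))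
    exact IsAlgClosed.of_ringEquiv (ResidueField O) (ResidueField B) (RingEquiv.ofBijective _ hs)
  let x' : B := ⟨x, hx⟩
  have hx' : x' ∈ maximalIdeal B := by
    refine (Ideal.IsPrime.mem_of_pow_mem inferInstance e ?_)
    have e' : x' ^ e = algebraMap O B c * ⟨y, hy⟩ := Subtype.ext hxy
    rw [e']
    refine Ideal.mul_mem_right _ _ ((IsLocalRing.mem_maximalIdeal _).2 fun h => ?_)
    exact (IsLocalRing.mem_maximalIdeal _).1 hc ((isUnit_map_iff (algebraMap O B) c).1 h)
  have hu : IsUnit (aeval x' g) := by
    have h0 : aeval x' g = x' * aeval x' g.divX + algebraMap O B (g.coeff 0) := by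
      conv_lhs => rw [← X_mul_divX_add g]
      rw [map_add, map_mul, aeval_X, aeval_C]
    refine (notMem_maximalIdeal).1 fun h => ?_
    rw [h0] at h
    have := (Ideal.add_mem_iff_right _ (Ideal.mul_mem_right _ _ hx')).1 h
    exact (IsLocalRing.mem_maximalIdeal _).1 this (((notMem_maximalIdeal).1 hg).map _)
  have hrB : (r : ResidueField B) ≠ 0 := fun h => hr
    ((algebraMap (ResidueField O) (ResidueField B)).injective (by rw [map_natCast, h, map_zero]))
  obtain ⟨w, hw⟩ := exists_pow_eq hu hrB
  refine ⟨w, ?_⟩
  have h := congrArg Subtype.val hw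
  rw [SubmonoidClass.coe_pow] at h
  rw [h]
  exact (aeval_algHom_apply B.val x' g).symm

end

/-- `X ^ n - ϖ` is irreducible over the fraction field. -/
theorem irreducible_X_pow_sub_C {O : Type u} [CommRing O] [IsDomain O] [IsDiscreteValuationRing O] {ϖ : O}
    (hϖ : Irreducible ϖ) {n : ℕ} (hn : n ≠ 0) (K : Type u) [Field K] [Algebra O K] [IsFractionRing O K] :
    Irreducible ((X ^ n - C (algebraMap O K ϖ)) : K[X]) := by
  have hmon : ((X ^ n - C ϖ) : O[X]).Monic := monic_X_pow_sub_C ϖ hn
  have hmax : maximalIdeal O = Ideal.span {ϖ} := hϖ.maximalIdeal_eq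
  have hE : ((X ^ n - C ϖ) : O[X]).IsEisensteinAt (maximalIdeal O) := by
    refine hmon.isEisensteinAt_of_mem_of_notMem (maximalIdeal.isMaximal O).ne_top (fun {i} hi => ?_) ?_
    · rw [natDegree_X_pow_sub_C] at hi
      rw [coeff_sub, coeff_X_pow, if_neg hi.ne, zero_sub, neg_mem_iff, coeff_C]
      split
      · rw [hmax]; exact Ideal.mem_span_singleton_self ϖ
      · exact zero_mem _
    · rw [coeff_sub, coeff_X_pow, if_neg (Ne.symm hn), zero_sub, coeff_C, if_pos rfl, neg_mem_iff, hmax,
        Ideal.span_singleton_pow, Ideal.mem_span_singleton]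
      exact fun ⟨t, ht⟩ => hϖ.not_isUnit (IsUnit.of_mul_eq_one t (mul_left_cancel₀ hϖ.ne_zero (by
        rw [mul_one]; linear_combination -ht)))
  have hirr := hE.irreducible (maximalIdeal.isMaximal O).isPrime hmon.isPrimitive (by
    rw [natDegree_X_pow_sub_C]; exact Nat.pos_of_ne_zero hn)
  have := (Monic.irreducible_iff_irreducible_map_fraction_map (K := K) hmon).1 hirr
  simpa using this

end GrothLib.Tame16
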